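import Mathlib.RingTheory.Localization.Away.Basic
import Mathlib.RingTheory.Localization.AtPrime.Basic
import Mathlib.RingTheory.Flat.Stability
import Mathlib.RingTheory.Flat.Equalizer
import Mathlib.RingTheory.TensorProduct.Basic
import Mathlib.LinearAlgebra.TensorProduct.Pi
import Mathlib.RingTheory.Ideal.Operations
import Mathlib.Tactic.LinearCombination

/-!
# Rings of sections over a quasi-compact open `⋃ D(s i)` of `Spec R`, elementwise

`Sheafy t D`  : `D` is the ring of compatible families over the `D(t i)`.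
`IsSec c s`   : `c : R → D` is the ring of sections of `Spec R` over `⋃ D(s i)`.
`IsSec.ext`   : `φ : R → D'` with `D'` sheafy for `φ ∘ s` extends uniquely to `D`.
`Sheafy.mono` : sheafy for `t'`, `t' ⊆ rad (t)` ⇒ sheafy for `t`.
-/

set_option autoImplicit false

universe u v w

open TensorProduct

namespace Groth.Agent.ResProp.EF.K478

variable {ι : Type*} {ι' : Type*}

/-- `D` is the ring of compatible families over the `D(t i)` -/
structure Sheafy {D : Type*} [CommRing D] (t : ι → D) : Prop where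
  inj : ∀ (n : ℕ) (x : D), (∀ i, t i ^ n * x = 0) → x = 0
  glue : ∀ (n : ℕ) (m : ι → D), (∀ i j, t j ^ n * m i = t i ^ n * m j) → ∃ e, ∀ i, t i ^ n * e = m i

/-- different exponents -/
theorem Sheafy.sep {D : Type*} [CommRing D] [Finite ι] {t : ι → D} (h : Sheafy t) (x : D)
    (hx : ∀ i, ∃ n : ℕ, t i ^ n * x = 0) : x = 0 := by
  classical
  cases nonempty_fintype ι
  choose n hn using hx
  refine h.inj (∑ i, n i) x fun i => ?_
  obtain ⟨k, hk⟩ := Nat.exists_eq_add_of_le (Finset.single_le_sum (fun j _ => Nat.zero_le (n j)) (Finset.mem_univ i))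
  rw [hk, pow_add, mul_right_comm, hn, zero_mul]

/-- if a power of `t'` is in the ideal generated by the `t i`, so is a power in the ideal of the `t i ^ n` -/
theorem exists_pow_mem {D : Type*} [CommRing D] [Finite ι] {t : ι → D} {x : D}
    (hx : x ∈ (Ideal.span (Set.range t)).radical) (n : ℕ) :
    ∃ (N : ℕ) (a : ι → D), ∀ [Fintype ι], x ^ N = ∑ i, a i * t i ^ n := by
  classical
  cases nonempty_fintype ι
  have h1 : (Ideal.span (Set.range t)).radical ≤ (Ideal.span (Set.range fun i => t i ^ n)).radical := by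
    rw [Ideal.radical_le_radical_iff, Ideal.span_le]
    rintro _ ⟨i, rfl⟩
    exact ⟨n, Ideal.subset_span ⟨i, rfl⟩⟩
  obtain ⟨N, hN⟩ := h1 hx
  obtain ⟨a, ha⟩ := (Ideal.mem_span_range_iff_exists_fun).1 hN
  refine ⟨N, a, fun {_} => ?_⟩
  rw [← ha]
  exact Finset.sum_congr (by ext; simp) fun _ _ => rfl

/-- a bigger open set -/
theorem Sheafy.mono {D : Type*} [CommRing D] [Finite ι] [Finite ι'] {t : ι → D} {t' : ι' → D} (h : Sheafy t')
    (ht : ∀ j, t' j ∈ (Ideal.span (Set.range t)).radical) : Sheafy t := by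
  classical
  cases nonempty_fintype ι
  cases nonempty_fintype ι'
  refine ⟨fun n x hx => ?_, fun n m hm => ?_⟩
  · refine h.sep x fun j => ?_
    obtain ⟨N, a, ha⟩ := exists_pow_mem (ht j) n
    refine ⟨N, ?_⟩
    rw [ha, Finset.sum_mul]
    exact Finset.sum_eq_zero fun i _ => by rw [mul_assoc, hx, mul_zero]
  · choose N a ha using fun j => exists_pow_mem (ht j) n
    -- uniform exponent
    let M := ∑ j, N j
    have hM : ∀ j, ∃ b : ι → D, t' j ^ M = ∑ i, b i * t i ^ n := fun j => by
      obtain ⟨k, hk⟩ := Nat.exists_eq_add_of_le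
        (Finset.single_le_sum (fun l _ => Nat.zero_le (N l)) (Finset.mem_univ j))
      refine ⟨fun i => t' j ^ k * a j i, ?_⟩
      rw [show M = N j + k from hk, pow_add, ha j, Finset.sum_mul]
      exact Finset.sum_congr rfl fun i _ => by ring
    choose b hb using hM
    let e' : ι' → D := fun j => ∑ i, b j i * m i
    have he' : ∀ j k, t k ^ n * e' j = t' j ^ M * m k := fun j k => by
      simp only [e', Finset.mul_sum]
      rw [hb j, Finset.sum_mul]
      exact Finset.sum_congr rfl fun i _ => by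
        rw [mul_left_comm, hm i k, ← mul_assoc]
    obtain ⟨e, he⟩ := h.glue M e' fun j l => by
      rw [hb l, Finset.sum_mul, show t' j ^ M * e' l = ∑ i, b l i * (t' j ^ M * m i) by
        simp only [e', Finset.mul_sum]
        exact Finset.sum_congr rfl fun i _ => by ring]
      exact Finset.sum_congr rfl fun i _ => by rw [mul_assoc, he']
    refine ⟨e, fun k => ?_⟩
    have : t k ^ n * e - m k = 0 := by
      refine h.inj M _ fun j => ?_
      rw [mul_sub, mul_left_comm, he, he', sub_self]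
    exact sub_eq_zero.1 this

/-- everything is sheafy for a family generating the unit ideal -/
theorem Sheafy.of_span {D : Type*} [CommRing D] [Finite ι] {t : ι → D} (ht : Ideal.span (Set.range t) = ⊤) :
    Sheafy t := by
  have h1 : Sheafy (fun _ : Unit => (1 : D)) :=
    ⟨fun n x hx => by simpa using hx (), fun n m _ => ⟨m (), fun i => by simp⟩⟩
  exact h1.mono fun j => by rw [ht, Ideal.radical_top]; exact Submodule.mem_top

/-- `c : R → D` is the ring of sections of `Spec R` over `⋃ D(s i)` -/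
structure IsSec {R : Type*} {D : Type*} [CommRing R] [CommRing D] (c : R →+* D) (s : ι → R) : Prop where
  ker : ∀ r : R, c r = 0 → ∀ i, ∃ n : ℕ, s i ^ n * r = 0
  num : ∀ (d : D) (i : ι), ∃ (n : ℕ) (r : R), c (s i) ^ n * d = c r
  sh : Sheafy (fun i => c (s i))

section Ext

variable {R : Type*} {D : Type*} {D' : Type*} [CommRing R] [CommRing D] [CommRing D'] {c : R →+* D} {s : ι → R}

/-- the relation `φ0 d = e` -/
def Rel (c : R →+* D) (s : ι → R) (φ : R →+* D') (d : D) (e : D') : Prop :=
  ∀ i, ∃ (n : ℕ) (r : R), c (s i) ^ n * d = c r ∧ φ (s i) ^ n * e = φ r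

variable [Finite ι]

theorem map_eq_of (h : IsSec c s) (φ : R →+* D') (hφ : Sheafy (fun i => φ (s i))) {a b : R} (hab : c a = c b) :
    φ a = φ b := by
  rw [← sub_eq_zero, ← map_sub]
  refine hφ.sep _ fun i => ?_
  obtain ⟨n, hn⟩ := h.ker (a - b) (by rw [map_sub, hab, sub_self]) i
  exact ⟨n, by rw [← map_pow, ← map_mul, hn, map_zero]⟩

theorem Rel.unique (h : IsSec c s) (φ : R →+* D') (hφ : Sheafy (fun i => φ (s i))) {d : D} {e e' : D'}
    (he : Rel c s φ d e) (he' : Rel c s φ d e') : e = e' := by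
  rw [← sub_eq_zero]
  refine hφ.sep _ fun i => ?_
  obtain ⟨n, r, h1, h2⟩ := he i
  obtain ⟨n', r', h1', h2'⟩ := he' i
  refine ⟨n + n', ?_⟩
  have h3 : φ (s i ^ n' * r) = φ (s i ^ n * r') := by
    refine map_eq_of h φ hφ ?_
    rw [map_mul, map_mul, ← h1, ← h1', map_pow, map_pow]
    ring
  rw [map_mul, map_mul, ← h2, ← h2', map_pow, map_pow] at h3
  rw [mul_sub, sub_eq_zero, pow_add]
  linear_combination h3

theorem Rel.exists (h : IsSec c s) (φ : R →+* D') (hφ : Sheafy (fun i => φ (s i))) (d : D) :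
    ∃ e, Rel c s φ d e := by
  classical
  cases nonempty_fintype ι
  choose n r hr using h.num d
  let N := ∑ i, n i
  have hN : ∀ i, ∃ r' : R, c (s i) ^ N * d = c r' := fun i => by
    obtain ⟨k, hk⟩ := Nat.exists_eq_add_of_le
      (Finset.single_le_sum (fun l _ => Nat.zero_le (n l)) (Finset.mem_univ i))
    refine ⟨s i ^ k * r i, ?_⟩
    rw [show N = n i + k from hk, pow_add, mul_right_comm, hr, map_mul, map_pow, mul_comm]
  choose r' hr' using hN
  obtain ⟨e, he⟩ := hφ.glue N (fun i => φ (r' i)) fun i j => by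
    rw [← map_pow, ← map_pow, ← map_mul, ← map_mul]
    refine map_eq_of h φ hφ ?_
    rw [map_mul, map_mul, ← hr', ← hr', map_pow, map_pow]
    ring
  exact ⟨e, fun i => ⟨N, r' i, hr' i, he i⟩⟩

omit [Finite ι] in
theorem Rel.add {φ : R →+* D'} {d d' : D} {e e' : D'} (h : Rel c s φ d e) (h' : Rel c s φ d' e') :
    Rel c s φ (d + d') (e + e') := fun i => by
  obtain ⟨n, r, h1, h2⟩ := h i
  obtain ⟨n', r', h1', h2'⟩ := h' i
  refine ⟨n + n', s i ^ n' * r + s i ^ n * r', ?_, ?_⟩
  · rw [map_add, map_mul, map_mul, map_pow, map_pow, ← h1, ← h1']; ring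
  · rw [map_add, map_mul, map_mul, map_pow, map_pow, ← h2, ← h2']; ring

omit [Finite ι] in
theorem Rel.mul {φ : R →+* D'} {d d' : D} {e e' : D'} (h : Rel c s φ d e) (h' : Rel c s φ d' e') :
    Rel c s φ (d * d') (e * e') := fun i => by
  obtain ⟨n, r, h1, h2⟩ := h i
  obtain ⟨n', r', h1', h2'⟩ := h' i
  refine ⟨n + n', r * r', ?_, ?_⟩
  · rw [map_mul, ← h1, ← h1']; ring
  · rw [map_mul, ← h2, ← h2']; ring

omit [Finite ι] in
theorem Rel.base (φ : R →+* D') (r : R) : Rel c s φ (c r) (φ r) := fun i => ⟨0, r, by simp, by simp⟩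

/-- **extension to the sections** -/
noncomputable def IsSec.lift (h : IsSec c s) (φ : R →+* D') (hφ : Sheafy (fun i => φ (s i))) : D →+* D' where
  toFun d := (Rel.exists h φ hφ d).choose
  map_one' := Rel.unique h φ hφ (Rel.exists h φ hφ 1).choose_spec (by simpa using Rel.base (c := c) (s := s) φ 1)
  map_mul' a b := Rel.unique h φ hφ (Rel.exists h φ hφ _).choose_spec
    ((Rel.exists h φ hφ a).choose_spec.mul (Rel.exists h φ hφ b).choose_spec)
  map_zero' := Rel.unique h φ hφ (Rel.exists h φ hφ 0).choose_spec (by simpa using Rel.base (c := c) (s := s) φ 0)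
  map_add' a b := Rel.unique h φ hφ (Rel.exists h φ hφ _).choose_spec
    ((Rel.exists h φ hφ a).choose_spec.add (Rel.exists h φ hφ b).choose_spec)

theorem IsSec.lift_rel (h : IsSec c s) (φ : R →+* D') (hφ : Sheafy (fun i => φ (s i))) (d : D) :
    Rel c s φ d (h.lift φ hφ d) := (Rel.exists h φ hφ d).choose_spec

@[simp] theorem IsSec.lift_apply (h : IsSec c s) (φ : R →+* D') (hφ : Sheafy (fun i => φ (s i))) (r : R) :
    h.lift φ hφ (c r) = φ r := Rel.unique h φ hφ (h.lift_rel φ hφ _) (Rel.base φ r)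

theorem IsSec.lift_comp (h : IsSec c s) (φ : R →+* D') (hφ : Sheafy (fun i => φ (s i))) :
    (h.lift φ hφ).comp c = φ := RingHom.ext fun r => h.lift_apply φ hφ r

/-- **uniqueness**: only separatedness of the target is used -/
theorem IsSec.hom_ext (h : IsSec c s) {f g : D →+* D'} (hf : Sheafy (fun i => f (c (s i)))) (hfg : f.comp c = g.comp c) :
    f = g := by
  ext d
  rw [← sub_eq_zero]
  refine hf.sep _ fun i => ?_
  obtain ⟨n, r, hr⟩ := h.num d i
  refine ⟨n, ?_⟩
  have h1 := congrArg f hr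
  have h2 := congrArg g hr
  have h3 : ∀ x, f (c x) = g (c x) := fun x => RingHom.congr_fun hfg x
  rw [map_mul, map_pow] at h1 h2
  rw [mul_sub, h1, h3 (s i), h2, h3 r, sub_self]

theorem IsSec.existsUnique (h : IsSec c s) (φ : R →+* D') (hφ : Sheafy (fun i => φ (s i))) :
    ∃! f : D →+* D', f.comp c = φ := by
  refine ⟨h.lift φ hφ, h.lift_comp φ hφ, fun g hg => ?_⟩
  refine (h.hom_ext (f := h.lift φ hφ) (g := g) ?_ ?_).symm
  · simpa using hφ
  · rw [h.lift_comp, hg]

end Ext

end Groth.Agent.ResProp.EF.K478
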