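import Groth.Agent.ResProp.EF.K478.Sec
import Mathlib.RingTheory.Flat.Basic
import Mathlib.RingTheory.Flat.Stability
import Mathlib.RingTheory.IsTensorProduct
import Mathlib.RingTheory.Localization.Away.Basic

/-!
# Rings of sections: flat base change, localisations, universal property
-/

set_option autoImplicit false

universe u v w

open TensorProduct

namespace Groth.Agent.ResProp.EF.K478

variable {ι : Type*}

/-- **flat base change** of the sheaf property -/
theorem Sheafy.of_flat {D : Type*} {E : Type*} [CommRing D] [CommRing E] [Algebra D E] [Module.Flat D E] [Finite ι]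
    {t : ι → D} (h : Sheafy t) : Sheafy (fun i => algebraMap D E (t i)) := by
  classical
  cases nonempty_fintype ι
  -- the two maps
  let u : ℕ → (D →ₗ[D] (ι → D)) := fun n => LinearMap.pi fun i => LinearMap.mulLeft D (t i ^ n)
  let v : ℕ → ((ι → D) →ₗ[D] (ι × ι → D)) := fun n => LinearMap.pi fun z =>
    LinearMap.mulLeft D (t z.2 ^ n) ∘ₗ LinearMap.proj z.1 - LinearMap.mulLeft D (t z.1 ^ n) ∘ₗ LinearMap.proj z.2
  have hu : ∀ n, Function.Injective (u n) := fun n => by
    rw [injective_iff_map_eq_zero]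
    intro x hx
    exact h.inj n x fun i => congrFun hx i
  have huv : ∀ n, Function.Exact (u n) (v n) := fun n m => by
    constructor
    · intro hm
      obtain ⟨e, he⟩ := h.glue n m fun i j => sub_eq_zero.1 (congrFun hm (i, j))
      exact ⟨e, funext he⟩
    · rintro ⟨e, rfl⟩
      ext z
      change t z.2 ^ n * (t z.1 ^ n * e) - t z.1 ^ n * (t z.2 ^ n * e) = 0
      ring
  -- after tensoring
  have hu' : ∀ n, Function.Injective ((u n).lTensor E) := fun n =>
    Module.Flat.lTensor_preserves_injective_linearMap _ (hu n)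
  have huv' : ∀ n, Function.Exact ((u n).lTensor E) ((v n).lTensor E) := fun n => Module.Flat.lTensor_exact E (huv n)
  have pu : ∀ (n : ℕ) (y : E ⊗[D] D) (i : ι), TensorProduct.piScalarRight D D E ι ((u n).lTensor E y) i =
      (algebraMap D E (t i)) ^ n * TensorProduct.rid D E y := fun n y i => by
    induction y using TensorProduct.induction_on with
    | zero => simp
    | tmul e d =>
      rw [LinearMap.lTensor_tmul, TensorProduct.piScalarRight_apply, TensorProduct.piScalarRightHom_tmul,
        TensorProduct.rid_tmul]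
      change (t i ^ n * d) • e = _
      rw [Algebra.smul_def, Algebra.smul_def, map_mul, map_pow, mul_assoc]
    | add a b ha hb => rw [map_add, map_add, Pi.add_apply, ha, hb, map_add, mul_add]
  have pv : ∀ (n : ℕ) (y : E ⊗[D] (ι → D)) (z : ι × ι), TensorProduct.piScalarRight D D E (ι × ι) ((v n).lTensor E y) z =
      (algebraMap D E (t z.2)) ^ n * TensorProduct.piScalarRight D D E ι y z.1 -
        (algebraMap D E (t z.1)) ^ n * TensorProduct.piScalarRight D D E ι y z.2 := fun n y z => by
    induction y using TensorProduct.induction_on with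
    | zero => simp
    | tmul e d =>
      rw [LinearMap.lTensor_tmul]
      simp only [TensorProduct.piScalarRight_apply, TensorProduct.piScalarRightHom_tmul]
      change (t z.2 ^ n * d z.1 - t z.1 ^ n * d z.2) • e = _
      simp only [Algebra.smul_def, map_mul, map_pow, map_sub]
      ring
    | add a b ha hb =>
      simp only [map_add, Pi.add_apply] at ha hb ⊢
      rw [ha, hb]
      ring
  refine ⟨fun n x hx => ?_, fun n m hm => ?_⟩
  · have h1 : (u n).lTensor E ((TensorProduct.rid D E).symm x) = 0 := by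
      apply (TensorProduct.piScalarRight D D E ι).injective
      ext i
      rw [pu, LinearEquiv.apply_symm_apply, hx, map_zero, Pi.zero_apply]
    have h2 : (TensorProduct.rid D E).symm x = 0 := hu' n (by rw [h1, map_zero])
    exact (TensorProduct.rid D E).symm.injective (by rw [h2, map_zero])
  · have h1 : (v n).lTensor E ((TensorProduct.piScalarRight D D E ι).symm m) = 0 := by
      apply (TensorProduct.piScalarRight D D E (ι × ι)).injective
      ext z
      rw [pv, LinearEquiv.apply_symm_apply, hm z.1 z.2, sub_self, map_zero, Pi.zero_apply]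
    obtain ⟨y, hy⟩ := (huv' n _).1 h1
    refine ⟨TensorProduct.rid D E y, fun i => ?_⟩
    rw [← pu, hy, LinearEquiv.apply_symm_apply]

/-- base change to `D ⊗ O`, `O` flat over the base -/
theorem Sheafy.tensor {k : Type*} {D : Type*} {O : Type*} [CommRing k] [CommRing D] [CommRing O] [Algebra k D]
    [Algebra k O] [Module.Flat k O] [Finite ι] {t : ι → D} (h : Sheafy t) : Sheafy (fun i => t i ⊗ₜ[k] (1 : O)) :=
  h.of_flat (E := D ⊗[k] O)

section Loc

variable {R : Type*} {D : Type*} [CommRing R] [CommRing D] {c : R →+* D} {s : ι → R}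

/-- `R[1/s i] = D[1/s i]` (1) -/
theorem IsSec.away (h : IsSec c s) (i : ι) (T : Type*) [CommRing T] [Algebra D T] [IsLocalization.Away (c (s i)) T] :
    @IsLocalization.Away R _ (s i) T _ ((algebraMap D T).comp c).toAlgebra := by
  let := ((algebraMap D T).comp c).toAlgebra
  have hal : ∀ r : R, algebraMap R T r = algebraMap D T (c r) := fun r => rfl
  have hu : IsUnit (algebraMap D T (c (s i))) := IsLocalization.Away.algebraMap_isUnit (c (s i))
  refine (isLocalization_iff (Submonoid.powers (s i)) T).2 ⟨?_, ?_, ?_⟩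
  · rintro ⟨_, n, rfl⟩
    rw [hal, map_pow, map_pow]
    exact hu.pow n
  · intro z
    obtain ⟨⟨d, ⟨_, n, rfl⟩⟩, hd⟩ := IsLocalization.surj (Submonoid.powers (c (s i))) z
    obtain ⟨m, r, hr⟩ := h.num d i
    refine ⟨⟨r, ⟨s i ^ (n + m), n + m, rfl⟩⟩, ?_⟩
    change z * algebraMap R T (s i ^ (n + m)) = algebraMap R T r
    rw [hal, hal, ← hr, map_mul]
    have hd' : z * algebraMap D T (c (s i) ^ n) = algebraMap D T d := hd
    rw [← hd', map_pow, map_pow, map_pow, map_pow]
    ring
  · intro x y hxy
    have h1 : algebraMap D T (c x) = algebraMap D T (c y) := hxy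
    obtain ⟨⟨_, n, rfl⟩, hn⟩ := (IsLocalization.eq_iff_exists (Submonoid.powers (c (s i))) T).1 h1
    have h2 : c (s i ^ n * (x - y)) = 0 := by
      rw [map_mul, map_sub, map_pow, mul_sub, sub_eq_zero]
      exact hn
    obtain ⟨m, hm⟩ := h.ker _ h2 i
    refine ⟨⟨s i ^ (m + n), m + n, rfl⟩, ?_⟩
    change s i ^ (m + n) * x = s i ^ (m + n) * y
    rw [← sub_eq_zero, ← mul_sub, pow_add, mul_assoc, hm]

/-- **universal property**: points of `⋃ D(s i)` -/
theorem IsSec.existsUnique_of_span [Finite ι] (h : IsSec c s) {T : Type*} [CommRing T] (φ : R →+* T)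
    (hφ : Ideal.span (Set.range fun i => φ (s i)) = ⊤) : ∃! f : D →+* T, f.comp c = φ :=
  h.existsUnique φ (Sheafy.of_span hφ)

/-- **flat base change** of sections: `R ⊗ O → D ⊗ O` -/
theorem IsSec.tensor {k : Type*} {R : Type*} {D : Type*} {O : Type*} [CommRing k] [CommRing R] [CommRing D] [CommRing O]
    [Algebra k R] [Algebra k D] [Algebra k O] [Module.Flat k O] [Finite ι] {c : R →ₐ[k] D} {s : ι → R}
    (h : IsSec c.toRingHom s) :
    IsSec (Algebra.TensorProduct.map c (AlgHom.id k O)).toRingHom (fun i => s i ⊗ₜ[k] (1 : O)) := by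
  refine ⟨?_, ?_, ?_⟩
  · intro r hr i
    have hex := Module.Flat.rTensor_exact O (LinearMap.exact_subtype_ker_map c.toLinearMap)
    obtain ⟨y, hy⟩ := (hex r).1 (show c.toLinearMap.rTensor O r = 0 from hr)
    rw [← hy]
    clear hy hr
    induction y using TensorProduct.induction_on with
    | zero => exact ⟨0, by simp⟩
    | tmul a o =>
      obtain ⟨n, hn⟩ := h.ker a.1 a.2 i
      refine ⟨n, ?_⟩
      rw [LinearMap.rTensor_tmul, Algebra.TensorProduct.tmul_pow, Algebra.TensorProduct.tmul_mul_tmul]
      change (s i ^ n * a.1) ⊗ₜ[k] _ = 0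
      rw [hn, TensorProduct.zero_tmul]
    | add a b ha hb =>
      obtain ⟨n, hn⟩ := ha
      obtain ⟨m, hm⟩ := hb
      refine ⟨n + m, ?_⟩
      rw [map_add]
      linear_combination (s i ⊗ₜ[k] (1 : O)) ^ m * hn + (s i ⊗ₜ[k] (1 : O)) ^ n * hm
  · intro d i
    induction d using TensorProduct.induction_on with
    | zero => exact ⟨0, 0, by simp⟩
    | tmul a o =>
      obtain ⟨n, r, hr⟩ := h.num a i
      refine ⟨n, r ⊗ₜ o, ?_⟩
      change (c (s i) ⊗ₜ[k] (1 : O)) ^ n * (a ⊗ₜ[k] o) = c r ⊗ₜ[k] o
      rw [Algebra.TensorProduct.tmul_pow, Algebra.TensorProduct.tmul_mul_tmul, one_pow, one_mul]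
      exact congrArg (· ⊗ₜ[k] o) hr
    | add a b ha hb =>
      obtain ⟨n, r, hr⟩ := ha
      obtain ⟨m, r', hr'⟩ := hb
      refine ⟨n + m, (s i ⊗ₜ[k] (1 : O)) ^ m * r + (s i ⊗ₜ[k] (1 : O)) ^ n * r', ?_⟩
      rw [map_add, map_mul, map_mul, ← hr, ← hr', map_pow, map_pow]
      ring
  · exact h.sh.tensor (k := k) (O := O)

end Loc

end Groth.Agent.ResProp.EF.K478
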